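import Groth.Prelude.Def_GLinSh
import Groth.Prelude.Def_Red
import Groth.Agent.SubDesc.Family
import Groth.Agent.S5341
import Groth.Agent.S0402
import Groth.Agent.GrpSchLib.Basic

/-! Upper semicontinuity of the dimension of stabilisers. -/

set_option autoImplicit false
set_option backward.isDefEq.respectTransparency false

universe u

open CategoryTheory MonoidalCategory CartesianMonoidalCategory MonObj AlgebraicGeometry Limits

noncomputable section

namespace Groth.Agent.StabDim

variable {S : Scheme.{u}} {G X : Over S} [GrpObj G] (a : AlgGrp.Action G X)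

theorem act_mul {U : Over S} (g h : U ⟶ G) (x : U ⟶ X) :
    lift (g * h) x ≫ a.act = lift g (lift h x ≫ a.act) ≫ a.act := by
  rw [Hom.mul_def, show lift (lift g h ≫ μ[G]) x = lift (lift g h) x ≫ (μ[G] ▷ X) by
    apply CartesianMonoidalCategory.hom_ext <;> simp, Category.assoc, a.mul_act, ← Category.assoc,
    show lift (lift g h) x ≫ (α_ G G X).hom = lift g (lift h x) by simp, ← Category.assoc, lift_whiskerLeft]

theorem act_one {U : Over S} (x : U ⟶ X) : lift (1 : U ⟶ G) x ≫ a.act = x := by
  rw [Hom.one_def, show lift (toUnit U ≫ η[G]) x = lift (toUnit U) x ≫ (η[G] ▷ X) by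
    apply CartesianMonoidalCategory.hom_ext <;> simp, Category.assoc, a.one_act]
  simp [leftUnitor_hom]

theorem act_inv {U : Over S} (g : U ⟶ G) {x : U ⟶ X} (h : lift g x ≫ a.act = x) : lift g⁻¹ x ≫ a.act = x := by
  conv_lhs => rw [← h, ← act_mul, inv_mul_cancel, act_one]

section Group

variable {S' : Scheme.{u}} (q : S' ⟶ S) (f : Over.mk q ⟶ X)

/-- The stabiliser over the base of the point. -/
abbrev stabOver : Over S' := Over.mk (GLinSh.stabTo a f)

/-- The inclusion into the base change of the group. -/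
def stabIncl : stabOver a q f ⟶ Red.bc q G :=
  Over.homMk (pullback.fst (GIT.psi a f).left (lift f (𝟙 (Over.mk q))).left) (by
    show pullback.fst (GIT.psi a f).left (lift f (𝟙 (Over.mk q))).left ≫ (snd G (Over.mk q)).left =
      pullback.snd (GIT.psi a f).left (lift f (𝟙 (Over.mk q))).left
    have h1 : (GIT.psi a f).left ≫ (snd X (Over.mk q)).left = (snd G (Over.mk q)).left := by
      rw [← Over.comp_left, GIT.psi, lift_snd]
    have h2 : (lift f (𝟙 (Over.mk q))).left ≫ (snd X (Over.mk q)).left = 𝟙 _ := by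
      rw [← Over.comp_left, lift_snd]; rfl
    rw [← h1, pullback.condition_assoc, h2]
    exact Category.comp_id _)

/-- The element of `G` underlying a point of the base change. -/
def gPt {U : Over S'} (v : U ⟶ Red.bc q G) : (Over.map q).obj U ⟶ G :=
  ((Over.mapPullbackAdj q).homEquiv U G).symm v

theorem gPt_eq {U : Over S'} (v : U ⟶ Red.bc q G) :
    gPt q v = (Over.homMk v.left (by
      show v.left ≫ (G ⊗ Over.mk q).hom = U.hom ≫ q
      rw [← Over.w (snd G (Over.mk q))]
      show v.left ≫ (snd G (Over.mk q)).left ≫ q = _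
      rw [← Category.assoc]
      exact congrArg (· ≫ q) (Over.w v)) : (Over.map q).obj U ⟶ G ⊗ Over.mk q) ≫ fst G (Over.mk q) := by
  apply Over.OverMorphism.ext
  simp [gPt, Adjunction.homEquiv_counit, Over.mapPullbackAdj]

theorem gPt_mul {U : Over S'} (v w : U ⟶ Red.bc q G) : gPt q (v * w) = gPt q v * gPt q w := by
  apply ((Over.mapPullbackAdj q).homEquiv U G).injective
  rw [gPt, Equiv.apply_symm_apply, Adjunction.homEquiv_unit, Functor.map_mul, MonObj.comp_mul,
    ← Adjunction.homEquiv_unit, ← Adjunction.homEquiv_unit, gPt, gPt, Equiv.apply_symm_apply, Equiv.apply_symm_apply]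

/-- The structure map of a scheme over `S'`. -/
abbrev tPt (U : Over S') : (Over.map q).obj U ⟶ Over.mk q := Over.homMk U.hom rfl

theorem factors_iff {U : Over S'} (v : U ⟶ Red.bc q G) :
    (∃ z : U ⟶ stabOver a q f, z ≫ stabIncl a q f = v) ↔
      lift (gPt q v) (tPt q U ≫ f) ≫ a.act = tPt q U ≫ f := by
  have hsnd : v.left ≫ (snd G (Over.mk q)).left = U.hom := Over.w v
  let V : (Over.map q).obj U ⟶ G ⊗ Over.mk q := Over.homMk v.left (by
      show v.left ≫ (G ⊗ Over.mk q).hom = U.hom ≫ q
      rw [← Over.w (snd G (Over.mk q))]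
      show v.left ≫ (snd G (Over.mk q)).left ≫ q = _
      rw [← Category.assoc]
      exact congrArg (· ≫ q) (Over.w v))
  have hV : V = lift (gPt q v) (tPt q U) := by
    apply CartesianMonoidalCategory.hom_ext
    · rw [lift_fst, gPt_eq]
    · rw [lift_snd]; exact Over.OverMorphism.ext hsnd
  have key : lift (gPt q v) (tPt q U ≫ f) ≫ a.act = tPt q U ≫ f ↔
      V ≫ GIT.psi a f = tPt q U ≫ lift f (𝟙 _) := by
    rw [hV, GIT.psi, comp_lift, ← Category.assoc, lift_whiskerLeft, lift_snd, comp_lift, Category.comp_id]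
    refine ⟨fun h => by rw [h], fun h => ?_⟩
    have := congrArg (· ≫ fst _ _) h
    simpa using this
  rw [key]
  constructor
  · rintro ⟨z, rfl⟩
    apply Over.OverMorphism.ext
    show (z.left ≫ pullback.fst (GIT.psi a f).left (lift f (𝟙 (Over.mk q))).left) ≫ (GIT.psi a f).left = U.hom ≫ (lift f (𝟙 (Over.mk q))).left
    rw [Category.assoc, pullback.condition, ← Category.assoc]
    exact congrArg (· ≫ _) (Over.w z)
  · intro h
    have h' : v.left ≫ (GIT.psi a f).left = U.hom ≫ (lift f (𝟙 (Over.mk q))).left := congrArg CommaMorphism.left h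
    refine ⟨Over.homMk (pullback.lift v.left U.hom h') (pullback.lift_snd _ _ _), ?_⟩
    exact Over.OverMorphism.ext (pullback.lift_fst _ _ _)

instance mono_stabIncl : Mono (stabIncl a q f) := by
  haveI : Mono (lift f (𝟙 (Over.mk q))).left := by
    haveI : Mono ((lift f (𝟙 (Over.mk q))).left ≫ (snd X (Over.mk q)).left) := by
      rw [← Over.comp_left, lift_snd]
      exact inferInstanceAs (Mono (𝟙 S'))
    exact mono_of_mono _ (snd X (Over.mk q)).left
  haveI : Mono (stabIncl a q f).left :=
    inferInstanceAs (Mono (pullback.fst (GIT.psi a f).left (lift f (𝟙 (Over.mk q))).left))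
  exact Over.mono_of_mono_left _

theorem exists_grpObj_stab : ∃ _ : GrpObj (stabOver a q f), IsMonHom (stabIncl a q f) := by
  have hone : ∀ {U : Over S'}, gPt q (1 : U ⟶ Red.bc q G) = 1 := fun {U} => by
    have h := gPt_mul q (1 : U ⟶ Red.bc q G) 1
    rw [_root_.one_mul] at h
    exact mul_eq_left.mp h.symm
  have hinv : ∀ {U : Over S'} (v : U ⟶ Red.bc q G), gPt q v⁻¹ = (gPt q v)⁻¹ := fun {U} v => by
    refine eq_inv_of_mul_eq_one_left ?_
    rw [← gPt_mul, inv_mul_cancel, hone]
  refine SubDesc.exists_grpObj_of_closed (stabIncl a q f) (fun {T} x y => ?_) (fun {T} x => ?_) ?_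
  · refine (factors_iff a q f _).mpr ?_
    rw [gPt_mul, act_mul, (factors_iff a q f _).mp ⟨y, rfl⟩, (factors_iff a q f _).mp ⟨x, rfl⟩]
  · refine (factors_iff a q f _).mpr ?_
    rw [hinv]
    exact act_inv a _ ((factors_iff a q f _).mp ⟨x, rfl⟩)
  · refine (factors_iff a q f _).mpr ?_
    rw [hone, act_one]

end Group

/-- The stabiliser of a point as a base change of the universal stabiliser. -/
theorem exists_isPullback_stab {T : Over S} (f : T ⟶ X) :
    ∃ φ : GLinSh.stab a f ⟶ GLinSh.stab a (𝟙 X),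
      IsPullback φ (GLinSh.stabTo a f) (GLinSh.stabTo a (𝟙 X)) f.left := by
  have hG : IsPullback (G ◁ f).left (snd G T).left (snd G X).left f.left := by
    refine IsPullback.of_right (h₁₂ := (fst G X).left) (v₁₃ := G.hom) (h₂₂ := X.hom) ?_ ?_ GrpSchLib.isPullback_fst_snd
    · rw [← Over.comp_left, whiskerLeft_fst, Over.w f]
      exact GrpSchLib.isPullback_fst_snd
    · rw [← Over.comp_left, ← Over.comp_left, whiskerLeft_snd]
  have hX : IsPullback (X ◁ f).left (snd X T).left (snd X X).left f.left := by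
    refine IsPullback.of_right (h₁₂ := (fst X X).left) (v₁₃ := X.hom) (h₂₂ := X.hom) ?_ ?_ GrpSchLib.isPullback_fst_snd
    · rw [← Over.comp_left, whiskerLeft_fst, Over.w f]
      exact GrpSchLib.isPullback_fst_snd
    · rw [← Over.comp_left, ← Over.comp_left, whiskerLeft_snd]
  have hψ : ∀ {U : Over S} (g : U ⟶ X), (GIT.psi a g).left ≫ (snd X U).left = (snd G U).left := fun {U} g => by
    rw [← Over.comp_left, GIT.psi, lift_snd]
  have hA : IsPullback (G ◁ f).left (GIT.psi a f).left (GIT.psi a (𝟙 X)).left (X ◁ f).left := by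
    refine IsPullback.of_bot (v₂₁ := (snd X T).left) (v₂₂ := (snd X X).left) ?_ ?_ hX
    · rw [hψ, hψ]; exact hG
    · rw [← Over.comp_left, ← Over.comp_left]
      congr 1
      apply CartesianMonoidalCategory.hom_ext <;> simp [GIT.psi]
  have hl : (lift f (𝟙 T)).left ≫ (X ◁ f).left = f.left ≫ (lift (𝟙 X) (𝟙 X)).left := by
    rw [← Over.comp_left, ← Over.comp_left]
    congr 1
    apply CartesianMonoidalCategory.hom_ext <;> simp
  have h1 := (IsPullback.of_hasPullback (GIT.psi a f).left (lift f (𝟙 T)).left).paste_horiz hA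
  rw [hl] at h1
  let φ : GLinSh.stab a f ⟶ GLinSh.stab a (𝟙 X) :=
    pullback.lift (pullback.fst (GIT.psi a f).left (lift f (𝟙 T)).left ≫ (G ◁ f).left)
      (pullback.snd (GIT.psi a f).left (lift f (𝟙 T)).left ≫ f.left) (by rw [h1.w, Category.assoc])
  have hφ1 : φ ≫ pullback.fst (GIT.psi a (𝟙 X)).left (lift (𝟙 X) (𝟙 X)).left =
      pullback.fst (GIT.psi a f).left (lift f (𝟙 T)).left ≫ (G ◁ f).left := pullback.lift_fst _ _ _
  refine ⟨φ, IsPullback.of_right (hφ1.symm ▸ h1) (pullback.lift_snd _ _ _) (IsPullback.of_hasPullback _ _)⟩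

theorem isClosed_le_of_nat {Z : Type u} [TopologicalSpace Z] (φ : Z → WithBot ℕ∞) (h0 : ∀ z, 0 ≤ φ z)
    (h : ∀ m : ℕ, IsOpen {z | φ z ≤ m}) (n : WithBot ℕ∞) : IsClosed {z | n ≤ φ z} := by
  have hnat : ∀ m : ℕ, IsClosed {z | ((m : ℕ∞) : WithBot ℕ∞) ≤ φ z} := by
    intro m
    cases m with
    | zero =>
      convert isClosed_univ
      exact Set.eq_univ_of_forall fun z => by simpa using h0 z
    | succ m =>
      rw [show {z | (((m + 1 : ℕ) : ℕ∞) : WithBot ℕ∞) ≤ φ z} = {z | φ z ≤ m}ᶜ from ?_]
      · exact (h m).isClosed_compl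
      ext z
      simp only [Set.mem_setOf_eq, Set.mem_compl_iff, not_le]
      generalize φ z = r
      induction r with
      | bot => simp
      | coe r =>
        rw [show ((m : WithBot ℕ∞)) = ((m : ℕ∞) : WithBot ℕ∞) from rfl, WithBot.coe_le_coe, WithBot.coe_lt_coe]
        push_cast
        exact ENat.add_one_le_iff (ENat.coe_ne_top m)
  induction n with
  | bot => simp
  | coe n =>
    induction n with
    | coe m => exact hnat m
    | top =>
      rw [show {z | ((⊤ : ℕ∞) : WithBot ℕ∞) ≤ φ z} = ⋂ m : ℕ, {z | ((m : ℕ∞) : WithBot ℕ∞) ≤ φ z} from ?_]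
      · exact isClosed_iInter hnat
      ext z
      simp only [Set.mem_setOf_eq, Set.mem_iInter]
      generalize φ z = r
      induction r with
      | bot => simp
      | coe r =>
        simp only [WithBot.coe_le_coe, top_le_iff]
        exact ⟨fun h m => h ▸ le_top, fun h => ENat.eq_top_iff_forall_ge.mpr h⟩

theorem isClosed_le_dim_stab [LocallyOfFiniteType G.hom] [LocallyOfFiniteType X.hom] [IsLocallyNoetherian S]
    (n : WithBot ℕ∞) : IsClosed {x : X.left | n ≤ topologicalKrullDim
      (GLinSh.stab a (Over.homMk (X.left.fromSpecResidueField x) rfl :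
        Over.mk (X.left.fromSpecResidueField x ≫ X.hom) ⟶ X))} := by
  let π := GLinSh.stabTo a (𝟙 X)
  haveI : LocallyOfFiniteType π := by
    haveI : LocallyOfFiniteType (snd X X).left := by
      exact MorphismProperty.of_isPullback (P := @LocallyOfFiniteType) GrpSchLib.isPullback_fst_snd inferInstance
    haveI : LocallyOfFiniteType (snd G X).left := by
      exact MorphismProperty.of_isPullback (P := @LocallyOfFiniteType) GrpSchLib.isPullback_fst_snd inferInstance
    haveI : LocallyOfFiniteType ((GIT.psi a (𝟙 X)).left ≫ (snd X X).left) := by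
      rw [← Over.comp_left, GIT.psi, lift_snd]; infer_instance
    haveI : LocallyOfFiniteType (GIT.psi a (𝟙 X)).left := locallyOfFiniteType_of_comp _ (snd X X).left
    exact MorphismProperty.pullback_snd (P := @LocallyOfFiniteType) _ _ inferInstance
  let e : X.left ⟶ GLinSh.stab a (𝟙 X) := pullback.lift (lift (1 : X ⟶ G) (𝟙 X)).left (𝟙 _) (by
    rw [← Over.comp_left, show lift (1 : X ⟶ G) (𝟙 X) ≫ GIT.psi a (𝟙 X) = lift (𝟙 X) (𝟙 X) by
      rw [GIT.psi, comp_lift, ← Category.assoc, lift_whiskerLeft, Category.comp_id, act_one, lift_snd]]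
    exact (Category.id_comp _).symm)
  have he : e ≫ π = 𝟙 _ := pullback.lift_snd _ _ _
  have key : ∀ x : X.left, topologicalKrullDim (GLinSh.stab a (Over.homMk (X.left.fromSpecResidueField x) rfl :
      Over.mk (X.left.fromSpecResidueField x ≫ X.hom) ⟶ X)) = FlatMor.fibreDimAt π (e x) := by
    intro x
    have hx : π (e x) = x := by rw [← Scheme.Hom.comp_apply, he]; rfl
    suffices ∀ y : X.left, π (e x) = y → topologicalKrullDim (GLinSh.stab a (Over.homMk (X.left.fromSpecResidueField y) rfl :
        Over.mk (X.left.fromSpecResidueField y ≫ X.hom) ⟶ X)) = FlatMor.fibreDimAt π (e x) from this x hx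
    rintro _ rfl
    let y := π (e x)
    let f : Over.mk (X.left.fromSpecResidueField y ≫ X.hom) ⟶ X := Over.homMk (X.left.fromSpecResidueField y) rfl
    obtain ⟨φ, hφ⟩ := exists_isPullback_stab a f
    obtain ⟨str, -⟩ := exists_grpObj_stab a (X.left.fromSpecResidueField y ≫ X.hom) f
    letI := str
    let I : stabOver a (X.left.fromSpecResidueField y ≫ X.hom) f ≅ Over.mk (π.fiberToSpecResidueField y) :=
      Over.isoMk hφ.isoPullback hφ.isoPullback_hom_snd
    letI : GrpObj (Over.mk (π.fiberToSpecResidueField y)) := GrpObj.ofIso I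
    haveI : LocallyOfFiniteType (Over.mk (π.fiberToSpecResidueField y)).hom :=
      MorphismProperty.pullback_snd (P := @LocallyOfFiniteType) π _ inferInstance
    have h := (S5341.result (X.left.residueField y) (Over.mk (π.fiberToSpecResidueField y))).2 (π.asFiber (e x))
    show _ = FlatMor.localDim (π.fiber y) (π.asFiber (e x))
    rw [show FlatMor.localDim (π.fiber y) (π.asFiber (e x)) = _ from h]
    exact IsHomeomorph.topologicalKrullDim_eq _ ((Over.forget _).mapIso I).hom.homeomorph.isHomeomorph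
  have hs : {x : X.left | n ≤ topologicalKrullDim
      (GLinSh.stab a (Over.homMk (X.left.fromSpecResidueField x) rfl :
        Over.mk (X.left.fromSpecResidueField x ≫ X.hom) ⟶ X))} = e ⁻¹' {z | n ≤ FlatMor.fibreDimAt π z} := by
    ext x
    show n ≤ _ ↔ n ≤ FlatMor.fibreDimAt π (e x)
    rw [key]
  rw [hs]
  refine (isClosed_le_of_nat _ (fun z => ?_) (fun m => S0402.result π m) n).preimage e.continuous
  refine le_iInf fun U => ?_
  let p : ↥(U.1 : Set (π.fiber (π z))) := ⟨_, U.2⟩
  haveI : Nonempty (TopologicalSpace.IrreducibleCloseds ↥(U.1 : Set (π.fiber (π z)))) :=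
    ⟨⟨closure {p}, isIrreducible_singleton.closure, isClosed_closure⟩⟩
  exact Order.krullDim_nonneg

end Groth.Agent.StabDim
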